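import Cfsg.Agent.H839.Rad.Base
import Cfsg.Agent.H959.Rad3.Iface
import Cfsg.Agent.S1624
import Cfsg.Agent.S0283
import Cfsg.Agent.S2131
import Cfsg.Agent.OddHalf.D4.Spor.J1Out
import Cfsg.Agent.CpAutTThree.JTwo
import Cfsg.Agent.CpAutJThree.Row
import Cfsg.Agent.H898.J3Three

/-!
# Radical elements of order three: the rows of `J₁`, `J₂`, `J₃` (helper462, for S3854, S3832, S4336)

* `irow_j1` : `C(t) = 2 × A₅` has index prime to 3;
* `irow_j2` : `U₃(3)` has index 100;
* `irow_j3` : an element of order 3 commutes with an involution `t` (`C(t) = 2^{1+4}.A₅`) or with an element `c` of order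
  3 which commutes with an involution (`C(c) = 3 × A₆`).
-/

set_option autoImplicit false
set_option linter.unusedSectionVars false
set_option maxRecDepth 100000

namespace Cfsg.Agent.H462.Rad3.Janko

open Subgroup Cfsg Cfsg.Spor Cfsg.Agent.H459.Rad Cfsg.Agent.H459.Iface Cfsg.Agent.H839.Rad Cfsg.Agent.H959.Rad3
open Cfsg.Agent.J2Type.Model Cfsg.Agent.J2Type.CStruct Cfsg.Agent.J3Type.OneClass

/-- a simple group whose order is not prime is not solvable -/
theorem not_solvable {L : Type*} [Group L] [Finite L] [IsSimpleGroup L] (h : ¬ (Nat.card L).Prime) :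
    ¬ Group.IsSolvable L := by
  intro hs
  have h1 : ∀ a b : L, a * b = b * a := IsSimpleGroup.comm_iff_isSolvable.2 hs
  let _ : CommGroup L := { (inferInstance : Group L) with mul_comm := h1 }
  exact h IsSimpleGroup.prime_card

theorem center_eq_bot {L : Type*} [Group L] [Finite L] [IsSimpleGroup L] (h : ¬ (Nat.card L).Prime) :
    center L = ⊥ := by
  rcases (inferInstance : (center L).Normal).eq_bot_or_eq_top with h1 | h1
  · exact h1
  · exfalso
    refine not_solvable h (Group.isSolvable_of_comm fun a b => ?_)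
    have ha : a ∈ center L := by rw [h1]; exact mem_top a
    exact (mem_center_iff.1 ha b).symm

theorem radFree_alt : RadFree 3 ↥(alternatingGroup (Fin 5)) := by
  have : IsSimpleGroup ↥(alternatingGroup (Fin 5)) := alternatingGroup.isSimpleGroup (by simp)
  have hc : Nat.card ↥(alternatingGroup (Fin 5)) = 60 := by
    rw [Nat.card_eq_fintype_card]
    decide +kernel
  exact RadFree.of_simple (by norm_num) (not_solvable (by rw [hc]; norm_num))

/-! ### `J₁` -/

theorem sq_two : ∀ u : Multiplicative (ZMod 2), u ^ 2 = 1 := by decide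

theorem irow_j1 {K : Type*} [Group K] [Finite K] [IsSimpleGroup K] (h : Cfsg.Spor.IsoJ1 K) : IRow K := by
  obtain ⟨e⟩ := h
  have hfin : Finite J1 := Finite.of_equiv _ e.toEquiv
  have hs : IsSimpleGroup J1 := e.symm.isSimpleGroup
  have hcard : Nat.card J1 = 175560 := Cfsg.Agent.SporadicB.J1.Main.isJ1.2
  have hnp : ¬ (Nat.card J1).Prime := by rw [hcard]; norm_num
  have hZ := center_eq_bot hnp
  refine IRow.congr e (IRowInn.irow hZ (fun x _ => Cfsg.Agent.OddHalf.D4.Spor.J1Out.inn x) ?_)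
  intro a ha hRC _
  obtain ⟨t, ht, ⟨f⟩⟩ := Cfsg.Agent.S2131.result
  have hM : Nat.card ↥(centralizer ({t} : Set J1)) = 120 := by
    rw [Nat.card_congr f.toEquiv, Nat.card_prod]
    have h1 : Nat.card (Multiplicative (ZMod 2)) = 2 := by simp
    have h2 : Nat.card ↥(alternatingGroup (Fin 5)) = 60 := by
      rw [Nat.card_eq_fintype_card]
      decide +kernel
    rw [h1, h2]
  have hidx : (centralizer ({t} : Set J1)).index = 1463 := by
    have h1 := (centralizer ({t} : Set J1)).card_mul_index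
    rw [hM, hcard] at h1
    omega
  refine false_of_sylow Nat.prime_three ha hRC (M := centralizer ({t} : Set J1)) ?_ (by rw [hidx]; norm_num) ?_
  · intro h1
    rw [h1, index_top] at hidx
    omega
  · refine RadFree.congr Nat.prime_three f (RadFree.of_surj Nat.prime_three
      (MonoidHom.snd (Multiplicative (ZMod 2)) ↥(alternatingGroup (Fin 5))) Prod.snd_surjective ?_ radFree_alt)
    rintro ⟨u, v⟩ huv ho
    have hv : v = 1 := huv
    subst hv
    have h1 : ((u, 1) : Multiplicative (ZMod 2) × ↥(alternatingGroup (Fin 5))) ^ 2 = 1 := by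
      rw [Prod.pow_mk, one_pow]
      rw [sq_two u]
      rfl
    have h2 := orderOf_dvd_of_pow_eq_one h1
    rw [ho] at h2
    omega

/-! ### `J₂` -/

theorem irow_j2 {K : Type*} [Group K] [Finite K] [IsSimpleGroup K] (h : Cfsg.Spor.IsoJ2 K) : IRow K := by
  obtain ⟨e⟩ := h
  have hfin : Finite J2 := Finite.of_equiv _ e.toEquiv
  have hs : IsSimpleGroup J2 := e.symm.isSimpleGroup
  have hcard : Nat.card J2 = 604800 := Cfsg.Agent.S1619.result.2.2.2
  have hZ := center_eq_bot (L := J2) (by rw [hcard]; norm_num)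
  refine IRow.congr e (IRowInn.irow hZ Cfsg.Agent.CpAutTThree.JTwo.autInner_three ?_)
  intro a ha hRC _
  obtain ⟨M, hM, ⟨F, _, _, hF, ⟨f⟩⟩, -⟩ := Cfsg.Agent.S1624.result
  have hMc : Nat.card M = 6048 := by
    have h1 := M.card_mul_index
    rw [hM, hcard] at h1
    omega
  refine false_of_sylow Nat.prime_three ha hRC (M := M) ?_ (by rw [hM]; norm_num) ?_
  · intro h1
    rw [h1, index_top] at hM
    omega
  · have : IsSimpleGroup (PSU 3 F 3) :=
      Cfsg.Agent.S0283.result (F := F) (q := 3) (by rw [hF]; norm_num) 3 (by norm_num) (by norm_num)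
    have hsM : IsSimpleGroup M := f.isSimpleGroup
    exact RadFree.of_simple (by norm_num) (not_solvable (by rw [hMc]; norm_num))

/-! ### `J₃` -/

section model

variable {C : Type*} [Group C] [Finite C] {Q : Subgroup C} {z : C} {v : Fin 5 → C} {ρ : C →* SP}

/-- `2^{1+4}.A₅` has no elements of order 3 in its radical -/
theorem radFree_model (M : IsModel Q z v ρ) : RadFree 3 C := by
  have hs : ∀ c, Equiv.Perm.sign (ρ c).σ = 1 := fun c => ((M.range (ρ c)).1 ⟨c, rfl⟩).1
  let f : C →* ↥(alternatingGroup (Fin 5)) :=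
    { toFun := fun c => ⟨(ρ c).σ, Equiv.Perm.mem_alternatingGroup.2 (hs c)⟩
      map_one' := Subtype.ext (by show (ρ 1).σ = 1; rw [map_one]; rfl)
      map_mul' := fun a b => Subtype.ext (by show (ρ (a * b)).σ = (ρ a).σ * (ρ b).σ; rw [map_mul]; rfl) }
  refine RadFree.of_surj Nat.prime_three f ?_ ?_ radFree_alt
  · rintro ⟨g, hg⟩
    obtain ⟨c, hc⟩ := (M.range ⟨g, 0⟩).2 ⟨Equiv.Perm.mem_alternatingGroup.1 hg, by simp⟩
    exact ⟨c, Subtype.ext (by show (ρ c).σ = g; rw [hc])⟩
  · intro c hc ho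
    have h1 : (ρ c).σ = 1 := congrArg Subtype.val hc
    have h2 : ρ (c * c) = 1 := by
      rw [map_mul]
      apply SP.ext
      · rw [mul_σ, h1, mul_one, one_σ]
      · funext i
        rw [mul_s, h1, Equiv.Perm.one_apply, one_s]
        exact CharTwo.add_self_eq_zero _
    have h3 : c ^ 4 = 1 := by
      have h4 : c ^ 4 = (c * c) * (c * c) := by rw [← pow_two, ← pow_two, ← pow_mul]
      rw [h4]
      rcases (M.ker _).1 h2 with h5 | h5
      · rw [h5, one_mul]
      · rw [h5, M.z_sq]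
    have h4 := orderOf_dvd_of_pow_eq_one h3
    rw [ho] at h4
    omega

end model

section tables

open Cfsg.Agent.J3.Core Cfsg.Agent.J3.Tab Cfsg.Agent.J3.Mono Cfsg.Agent.J3.Elts Cfsg.Agent.H898.J3Three
open Cfsg.Agent.J3.Nineteen (exists_scalar center_eq card_center)

theorem chk0 : ∀ k : Fin 3, ∀ a w : F9, w ≠ 0 → cubeB (tab k a w) (tS 0) = false := by
  decide +kernel

theorem m_ne : ((2, 0) : F9) ≠ 0 := by decide

theorem nrm_zero : nrm (0 : F9) = 0 := by decide

theorem chk_bb : beqL (compT (tB (2, 0)) (cols (tB (2, 0)))) (cols (tS 0)) = true := by decide +kernel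

theorem chk_eb : beqL (compT tE (cols (tB (2, 0)))) (compT (tB (2, 0)) (cols tE)) = true := by decide +kernel

theorem chk_ba : ¬ (cols (compT (tB (2, 0)) (tA (1, 0)))).getD (idx (1, 0)) 0 =
    (cols (compT (tA (1, 0)) (tB (2, 0)))).getD (idx (1, 0)) 0 := by decide +kernel

theorem chk_ed : ¬ (cols (compT tE (tD (1, 0)))).getD (idx (0, 0)) 0 =
    (cols (compT (tD (1, 0)) tE)).getD (idx (0, 0)) 0 := by decide +kernel

variable {F : Type*} [Field F] {ω : F}

/-- an element of the Sylow subgroup of order three is diagonal -/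
theorem w_zero (H : Good ω) (G : Gens F ω) {s0 : threeJ3 F ω} (hs0 : mat ω s0 = ω • 1) {s k : ℕ} {a w : F9}
    (h : el G s0 s k a w ^ 3 = 1) : w = 0 := by
  by_contra hw
  have h1 : el G s0 s k a w = s0 ^ s * el G s0 0 (k % 3) a w := by
    rw [el_mod G H hs0, show s0 ^ s = s0 ^ (s % 3) by
      conv_lhs => rw [← Nat.div_add_mod s 3, pow_add, pow_mul, s0_cube H hs0, one_pow, one_mul]]
    unfold el
    rw [pow_zero, one_mul]
  have h2 : el G s0 0 (k % 3) a w ^ 3 = 1 := by
    rw [← h, h1, (show Commute (s0 ^ s) _ from s0_pow_comm hs0 s _).mul_pow, ← pow_mul, mul_comm s 3, pow_mul,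
      s0_cube H hs0, one_pow, one_mul]
  let k' : Fin 3 := ⟨k % 3, Nat.mod_lt _ (by norm_num)⟩
  have h3 : RepG ω (tab k' a w) (el G s0 0 (k % 3) a w) := repG_el G H hs0 k' a w
  have h5 : RepG ω (tS 0) (el G s0 0 (k % 3) a w ^ 3) := by rw [h2]; exact repG_one H
  have h6 : RepG ω (compT (tab k' a w) (compT (tab k' a w) (tab k' a w))) (el G s0 0 (k % 3) a w ^ 3) := by
    have := h3.mul (h3.mul h3)
    have e : el G s0 0 (k % 3) a w ^ 3 = el G s0 0 (k % 3) a w * (el G s0 0 (k % 3) a w * el G s0 0 (k % 3) a w) := by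
      rw [pow_succ', pow_two]
    rwa [e]
  have h7 : cubeB (tab k' a w) (tS 0) = true := by
    unfold cubeB
    rw [List.all_eq_true]
    intro i hi
    rw [List.mem_range] at hi
    have h8 : 2 ^ (2 * i) < 2 ^ 18 := Nat.pow_lt_pow_right (by norm_num) (by omega)
    have h9 := app_eq H h6 h5 h8
    rw [appT_compT, appT_compT] at h9
    rw [h9]
    exact Nat.beq_refl _
  rw [chk0 k' a w hw] at h7
  exact Bool.false_ne_true h7

/-- **in the model**: an element of order three commutes with an element of order three which commutes with an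
involution -/
theorem exists_comm_model [Fintype F] (hF : Fintype.card F = 4) (H : Good ω) {x : J3 F ω} (hx : orderOf x = 3) :
    ∃ c t : J3 F ω, orderOf c = 3 ∧ x * c = c * x ∧ orderOf t = 2 ∧ t * c = c * t := by
  obtain ⟨G⟩ := exists_gens hF H
  obtain ⟨s0, hs0⟩ := exists_scalar H G
  have hcard := Cfsg.Agent.J3.Order.card_threeJ3 hF H
  have hfin : Finite (threeJ3 F ω) := Nat.finite_of_card_ne_zero (by rw [hcard]; norm_num)
  have h3p : Fact (Nat.Prime 3) := ⟨Nat.prime_three⟩
  let pr : threeJ3 F ω →* J3 F ω := QuotientGroup.mk' (center (threeJ3 F ω))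
  have hpr : ∀ g, pr g = 1 ↔ g ∈ center (threeJ3 F ω) := fun g => QuotientGroup.eq_one_iff g
  obtain ⟨g, hg⟩ := QuotientGroup.mk'_surjective (center (threeJ3 F ω)) x
  change pr g = x at hg
  have hg3 : g ^ 3 = 1 := by
    apply cube_eq_one hF H
    rw [← hpr, map_pow, hg]
    exact orderOf_dvd_iff_pow_eq_one.1 (dvd_of_eq hx)
  -- the Sylow subgroup
  have hP : IsPGroup 3 ↥(Subgroup.zpowers g) := by
    rintro ⟨_, n, rfl⟩
    refine ⟨1, Subtype.ext ?_⟩
    show (g ^ n) ^ 3 ^ 1 = 1
    rw [pow_one, ← zpow_natCast (g ^ n), ← _root_.zpow_mul, mul_comm, _root_.zpow_mul, zpow_natCast, hg3,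
      _root_.one_zpow]
  have hfac : (Nat.card (threeJ3 F ω)).factorization 3 = 6 := by
    rw [hcard, show (150698880 : ℕ) = 3 ^ 6 * 206720 by norm_num,
      Nat.factorization_mul (by norm_num) (by norm_num), Finsupp.add_apply, Nat.prime_three.factorization_pow,
      Finsupp.single_eq_same, Nat.factorization_eq_zero_of_not_dvd (by norm_num)]
  let Q : Sylow 3 (threeJ3 F ω) := Sylow.ofCard (P3 G H hs0) (by rw [card_P3, hfac]; norm_num)
  obtain ⟨Q', hQ'⟩ := hP.exists_le_sylow
  obtain ⟨h, hh⟩ := MulAction.exists_smul_eq (threeJ3 F ω) Q' Q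
  have h1 : h * g * h⁻¹ ∈ P3 G H hs0 := by
    have h2 : h * g * h⁻¹ ∈ (Q : Subgroup (threeJ3 F ω)) := by
      rw [← hh, Sylow.coe_subgroup_smul]
      exact Subgroup.smul_mem_pointwise_smul g (MulAut.conj h) _ (hQ' (Subgroup.mem_zpowers g))
    exact h2
  obtain ⟨s, k, a, w, hel⟩ := h1
  have hcube : el G s0 s k a w ^ 3 = 1 := by
    rw [← hel, show (h * g * h⁻¹) ^ 3 = h * g ^ 3 * h⁻¹ by simp only [pow_succ, pow_zero, one_mul]; group, hg3]
    group
  have hw := w_zero H G hs0 hcube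
  subst hw
  -- `E` commutes with it
  have ha0 : G.a 0 = 1 := by
    have h1 := aa G H 0 0
    rw [add_zero] at h1
    exact mul_eq_left.1 h1
  have hd0 : G.d 0 * G.e = G.e * G.d 0 := by
    have h1 := de G H hs0 0
    have h2 := nrm_zero
    rw [h2, pow_zero, one_mul, ha0, one_mul] at h1
    exact h1
  have hcomm : Commute (h * g * h⁻¹) G.e := by
    rw [hel]
    unfold el
    have c1 : Commute (s0 ^ s) G.e := s0_pow_comm hs0 s G.e
    have c2 : Commute (G.e ^ k) G.e := (Commute.refl _).pow_left k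
    have c3 : Commute (G.a a) G.e := ae G H a
    exact c1.mul_left (c2.mul_left (c3.mul_left hd0))
  -- the involution `B_{-1}`
  have rb : RepG ω (tB (2, 0)) (G.b (2, 0)) := by
    unfold RepG
    rw [G.hb _ m_ne]
    exact repB H _ m_ne
  have re : RepG ω tE G.e := by
    unfold RepG
    rw [G.he]
    exact repE H
  have ra : RepG ω (tA (1, 0)) (G.a (1, 0)) := by
    unfold RepG
    rw [G.ha]
    exact repA H _
  have rd : RepG ω (tD (1, 0)) (G.d (1, 0)) := by
    unfold RepG
    rw [G.hd]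
    exact repD H _
  have hbb : G.b (2, 0) * G.b (2, 0) = 1 :=
    RepG.ext (rb.mul rb) (repG_one H) (by rw [cols_compT]; exact beqL_eq chk_bb)
  have heb : G.e * G.b (2, 0) = G.b (2, 0) * G.e :=
    RepG.ext (re.mul rb) (rb.mul re) (by rw [cols_compT, cols_compT]; exact beqL_eq chk_eb)
  have hbn : pr (G.b (2, 0)) ≠ 1 := by
    rw [Ne, hpr]
    intro hc
    have h1 : G.b (2, 0) * G.a (1, 0) = G.a (1, 0) * G.b (2, 0) := (mem_center_iff.1 hc _).symm
    have h2 := rb.mul ra
    rw [h1] at h2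
    exact chk_ba (RepG.cols_eq H h2 (ra.mul rb) (1, 0))
  have hen : pr G.e ≠ 1 := by
    rw [Ne, hpr]
    intro hc
    have h1 : G.e * G.d (1, 0) = G.d (1, 0) * G.e := (mem_center_iff.1 hc _).symm
    have h2 := re.mul rd
    rw [h1] at h2
    exact chk_ed (RepG.cols_eq H h2 (rd.mul re) (0, 0))
  have ho3 : orderOf (pr G.e) = 3 := orderOf_eq_prime (by rw [← map_pow, e_cube G H, map_one]) hen
  have ho2 : orderOf (pr (G.b (2, 0))) = 2 := orderOf_eq_prime (by rw [← map_pow, pow_two, hbb, map_one]) hbn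
  refine ⟨pr (h⁻¹ * G.e * h), pr (h⁻¹ * G.b (2, 0) * h), ?_, ?_, ?_, ?_⟩
  · rw [map_mul, map_mul, map_inv]
    have h1 : (pr h)⁻¹ * pr G.e * pr h = MulAut.conj (pr h)⁻¹ (pr G.e) := by
      rw [MulAut.conj_apply, inv_inv]
    rw [h1, MulEquiv.orderOf_eq, ho3]
  · rw [← hg, ← map_mul, ← map_mul]
    congr 1
    calc g * (h⁻¹ * G.e * h) = h⁻¹ * ((h * g * h⁻¹) * G.e) * h := by group
      _ = h⁻¹ * (G.e * (h * g * h⁻¹)) * h := by rw [hcomm.eq]
      _ = h⁻¹ * G.e * h * g := by group
  · rw [map_mul, map_mul, map_inv]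
    have h1 : (pr h)⁻¹ * pr (G.b (2, 0)) * pr h = MulAut.conj (pr h)⁻¹ (pr (G.b (2, 0))) := by
      rw [MulAut.conj_apply, inv_inv]
    rw [h1, MulEquiv.orderOf_eq, ho2]
  · rw [← map_mul, ← map_mul]
    congr 1
    calc h⁻¹ * G.b (2, 0) * h * (h⁻¹ * G.e * h) = h⁻¹ * (G.b (2, 0) * G.e) * h := by group
      _ = h⁻¹ * (G.e * G.b (2, 0)) * h := by rw [heb]
      _ = h⁻¹ * G.e * h * (h⁻¹ * G.b (2, 0) * h) := by group

end tables

variable {K : Type*} [Group K]

theorem exists_comm (h : Cfsg.Spor.IsoJ3 K) {x : K} (hx : orderOf x = 3) :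
    ∃ c t : K, orderOf c = 3 ∧ x * c = c * x ∧ orderOf t = 2 ∧ t * c = c * t := by
  obtain ⟨F, _, _, ω, hF, hω, ⟨e⟩⟩ := h
  have H := Cfsg.Agent.J3.Core.good_of_card hF hω
  obtain ⟨c, t, h1, h2, h3, h4⟩ := exists_comm_model hF H (x := e x) (by rw [MulEquiv.orderOf_eq, hx])
  refine ⟨e.symm c, e.symm t, by rw [MulEquiv.orderOf_eq, h1], ?_, by rw [MulEquiv.orderOf_eq, h3], ?_⟩
  · apply e.injective
    rw [map_mul, map_mul, e.apply_symm_apply, h2]
  · apply e.injective
    rw [map_mul, map_mul, e.apply_symm_apply, e.apply_symm_apply, h4]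

theorem irow_j3 [Finite K] [IsSimpleGroup K] (h : Cfsg.Spor.IsoJ3 K) : IRow K := by
  obtain ⟨hcard, hM, hone, -⟩ := Cfsg.Agent.CpAutJThree.base h
  have hZ := center_eq_bot (L := K) (by rw [hcard]; norm_num)
  refine IRowInn.irow hZ (Cfsg.Agent.CpAutJThree.autInner h Nat.prime_three (by norm_num)) ?_
  intro x hx hRC _
  -- the elements commuting with an involution
  have key : ∀ t : K, orderOf t = 2 → x * t = t * x → False := by
    intro t ht hxt
    obtain ⟨-, -, Q, v, ρ, M⟩ := hM t ht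
    refine false_of_comm hx hRC ?_ hxt (radFree_model M)
    intro hc
    rw [hZ, mem_bot] at hc
    rw [hc, orderOf_one] at ht
    omega
  obtain ⟨c, t, hc, hxc, ht, htc⟩ := exists_comm h hx
  have memC : ∀ a : K, a ∈ centralizer ({c} : Set K) ↔ a * c = c * a := fun a => mem_centralizer_singleton_iff
  obtain ⟨c0, hc0, ⟨s, hs, hsc⟩, hc0c⟩ := Cfsg.Agent.CpAutJThree.exc h
  obtain ⟨g, hg⟩ := Cfsg.Agent.CpAutJThree.conj_three hM hone hc0 hc hs ht hsc htc
  have hC : Nat.card ↥(centralizer ({c} : Set K)) = 1080 := by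
    rw [← Cfsg.Agent.CpAutJThree.card_centralizer_conj g hg]; exact hc0c
  let c' : centralizer ({c} : Set K) := ⟨c, (memC c).2 rfl⟩
  have hc3 : orderOf c' = 3 := by rw [← hc]; exact orderOf_mk _ _
  have hcc : ∀ a : centralizer ({c} : Set K), a * c' = c' * a := fun a => Subtype.ext ((memC a).1 a.2)
  have hZn : (zpowers c').Normal := by
    constructor
    rintro n ⟨k, rfl⟩ g
    refine ⟨k, ?_⟩
    have h1 : Commute g c' := hcc g
    have := h1.zpow_right k
    show c' ^ k = g * c' ^ k * g⁻¹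
    rw [this.eq]; group
  have hHD8 := Cfsg.Agent.J3Type.Extra.hd8_quotient c' hc3 hcc (Cfsg.Agent.CpAutJThree.hD_of_model hM hc)
  have hq : Nat.card (↥(centralizer ({c} : Set K)) ⧸ zpowers c') = 360 := by
    have := card_eq_card_quotient_mul_card_subgroup (zpowers c')
    rw [hC, Nat.card_zpowers, hc3] at this
    omega
  have hp2 : Fact (Nat.Prime 2) := ⟨Nat.prime_two⟩
  obtain ⟨s', hs'⟩ := exists_prime_orderOf_dvd_card' (G := ↥(centralizer ({c} : Set K)) ⧸ zpowers c') 2
    (by rw [hq]; norm_num)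
  have hsim := Cfsg.Agent.J3Type.Extra.isSimple hHD8 hs'
  have hcz : c ∉ center K := by
    intro h1
    rw [hZ, mem_bot] at h1
    rw [h1, orderOf_one] at hc
    omega
  have h1 : x ∈ zpowers c := by
    refine mem_zpowers_of_large hx hRC hcz hxc (large_of_quotient Nat.prime_three
      (QuotientGroup.mk' (zpowers c')) (QuotientGroup.mk'_surjective _) ?_
      (RadFree.of_simple (by norm_num) (not_solvable (by rw [hq]; norm_num))))
    intro u hu
    have h2 : u ∈ zpowers c' := (QuotientGroup.eq_one_iff u).1 hu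
    obtain ⟨k, hk⟩ := h2
    exact ⟨k, congrArg Subtype.val hk⟩
  obtain ⟨k, rfl⟩ := mem_zpowers_iff.1 h1
  exact key t ht ((show Commute c t from htc.symm).zpow_left k)

end Cfsg.Agent.H462.Rad3.Janko
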